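import Groth.Agent.Lib.K0Serre22.Quot
import Mathlib.CategoryTheory.Abelian.Refinements
import Mathlib.Data.Multiset.Count
import Mathlib.Data.Finsupp.Multiset

/-! # The kernel of `K₀(P) → K₀(A)` and periodic complexes -/

set_option autoImplicit false
set_option linter.style.haveILetI false
universe v v' u u'

open CategoryTheory CategoryTheory.Limits
open scoped ZeroObject

noncomputable section

namespace GrothLib.K0Serre22

variable {A : Type u} [Category.{v} A] [Abelian A]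

theorem cl_homology (S : ShortComplex A) :
    KZero.cl S.homology = KZero.cl (kernel S.g) - KZero.cl S.X₁ + KZero.cl (kernel S.f) := by
  have e : S.homology ≅ cokernel (kernel.lift S.g S.f S.zero) := S.homologyIsoCokernelLift
  have h := cl_ker_coker (kernel.lift S.g S.f S.zero)
  have e' : kernel (kernel.lift S.g S.f S.zero) ≅ kernel S.f :=
    (kernelCompMono (kernel.lift S.g S.f S.zero) (kernel.ι S.g)).symm ≪≫ kernelIsoOfEq (kernel.lift_ι _ _ _)
  rw [cl_iso e, ← cl_iso e']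
  have h' : KZero.cl (cokernel (kernel.lift S.g S.f S.zero)) =
      KZero.cl (kernel (kernel.lift S.g S.f S.zero)) - (KZero.cl S.X₁ - KZero.cl (kernel S.g)) := by
    rw [h]; abel
  rw [h']; abel

variable (P : ObjectProperty A)

theorem map_periodic (ι : KZero.K0sub P →+ KZero.K0 A) (hι : ∀ X : A, P X → ι (KZero.clSub P X) = KZero.cl X)
    {M : A} (φ ψ : M ⟶ M) (h₁ : φ ≫ ψ = 0) (h₂ : ψ ≫ φ = 0)
    (p₁ : P (ShortComplex.mk φ ψ h₁).homology) (p₂ : P (ShortComplex.mk ψ φ h₂).homology) :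
    ι (KZero.clSub P (ShortComplex.mk φ ψ h₁).homology - KZero.clSub P (ShortComplex.mk ψ φ h₂).homology) = 0 := by
  rw [map_sub, hι _ p₁, hι _ p₂, cl_homology, cl_homology]
  dsimp only
  abel

/-- The sum of a list of objects. -/
def lsum : List A → A
  | [] => 0
  | a :: l => a ⊞ lsum l

/-- A middle swap of three summands. -/
def swapFirst (a b c : A) : a ⊞ (b ⊞ c) ≅ b ⊞ (a ⊞ c) where
  hom := biprod.lift (biprod.snd ≫ biprod.fst) (biprod.lift biprod.fst (biprod.snd ≫ biprod.snd))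
  inv := biprod.lift (biprod.snd ≫ biprod.fst) (biprod.lift biprod.fst (biprod.snd ≫ biprod.snd))

theorem lsum_append : ∀ l l' : List A, Nonempty (lsum (l ++ l') ≅ lsum l ⊞ lsum l')
  | [], l' => ⟨{ hom := biprod.inr
                 inv := biprod.snd
                 inv_hom_id := biprod.hom_ext' _ _ ((isZero_zero A).eq_of_src _ _)
                   ((biprod.inr_snd_assoc _).trans (Category.comp_id _).symm) }⟩
  | a :: l, l' => by
    obtain ⟨e⟩ := lsum_append l l'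
    exact ⟨biprod.mapIso (Iso.refl a) e ≪≫ (biprod.associator a (lsum l) (lsum l')).symm⟩

theorem lsum_perm {l l' : List A} (h : l.Perm l') : Nonempty (lsum l ≅ lsum l') := by
  induction h with
  | nil => exact ⟨Iso.refl _⟩
  | cons x _ ih =>
    obtain ⟨e⟩ := ih
    exact ⟨biprod.mapIso (Iso.refl x) e⟩
  | swap x y l => exact ⟨swapFirst y x (lsum l)⟩
  | trans _ _ ih ih' =>
    obtain ⟨e⟩ := ih
    obtain ⟨e'⟩ := ih'
    exact ⟨e ≪≫ e'⟩

/-- Short exact sequences. -/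
abbrev SES (A : Type u) [Category.{v} A] [Abelian A] : Type (max u v) := {S : ShortComplex A // S.ShortExact}

theorem shortExact_biprod {S T : ShortComplex A} (hS : S.ShortExact) (hT : T.ShortExact) :
    (ShortComplex.mk (biprod.map S.f T.f) (biprod.map S.g T.g)
      (by apply biprod.hom_ext' <;> apply biprod.hom_ext <;> simp)).ShortExact := by
  haveI := hS.mono_f
  haveI := hT.mono_f
  haveI := hS.epi_g
  haveI := hT.epi_g
  refine { exact := ?_, mono_f := ?_, epi_g := ?_ }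
  · rw [ShortComplex.exact_iff_exact_up_to_refinements]
    intro W x hx
    dsimp at x hx
    have h1 : (x ≫ biprod.fst) ≫ S.g = 0 := by
      rw [Category.assoc, ← biprod.map_fst S.g T.g, ← Category.assoc, hx, zero_comp]
    have h2 : (x ≫ biprod.snd) ≫ T.g = 0 := by
      rw [Category.assoc, ← biprod.map_snd S.g T.g, ← Category.assoc, hx, zero_comp]
    exact ⟨W, 𝟙 W, inferInstance, biprod.lift (hS.exact.lift _ h1) (hT.exact.lift _ h2),
      biprod.hom_ext _ _ (by simp) (by simp)⟩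
  · refine ⟨fun a b hab => biprod.hom_ext _ _ ?_ ?_⟩
    · rw [← cancel_mono S.f, Category.assoc, Category.assoc, ← biprod.map_fst S.f T.f, ← Category.assoc, hab, Category.assoc]
    · rw [← cancel_mono T.f, Category.assoc, Category.assoc, ← biprod.map_snd S.f T.f, ← Category.assoc, hab, Category.assoc]
  · refine ⟨fun a b hab => biprod.hom_ext' _ _ ?_ ?_⟩
    · rw [← cancel_epi S.g, ← biprod.inl_map_assoc S.g T.g, ← biprod.inl_map_assoc S.g T.g, hab]
    · rw [← cancel_epi T.g, ← biprod.inr_map_assoc S.g T.g, ← biprod.inr_map_assoc S.g T.g, hab]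

theorem exists_sum : ∀ l : List (SES A), ∃ (S : ShortComplex A), S.ShortExact ∧
    Nonempty (lsum (l.map fun s => s.1.X₁) ≅ S.X₁) ∧ Nonempty (lsum (l.map fun s => s.1.X₂) ≅ S.X₂) ∧
      Nonempty (lsum (l.map fun s => s.1.X₃) ≅ S.X₃)
  | [] => ⟨ShortComplex.mk (0 : (0 : A) ⟶ 0) (0 : (0 : A) ⟶ 0) zero_comp,
      { exact := ShortComplex.exact_of_isZero_X₂ _ (isZero_zero A)
        mono_f := ⟨fun _ _ _ => (isZero_zero A).eq_of_tgt _ _⟩
        epi_g := ⟨fun _ _ _ => (isZero_zero A).eq_of_src _ _⟩ },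
      ⟨Iso.refl _⟩, ⟨Iso.refl _⟩, ⟨Iso.refl _⟩⟩
  | s :: l => by
    obtain ⟨S, hS, ⟨e₁⟩, ⟨e₂⟩, ⟨e₃⟩⟩ := exists_sum l
    exact ⟨_, shortExact_biprod s.2 hS, ⟨biprod.mapIso (Iso.refl _) e₁⟩, ⟨biprod.mapIso (Iso.refl _) e₂⟩,
      ⟨biprod.mapIso (Iso.refl _) e₃⟩⟩

theorem exists_lists {z : FreeAbelianGroup A} (hz : z ∈ KZero.relAb A) :
    ∃ l t : List (SES A),
      z + (l.map fun s => FreeAbelianGroup.of s.1.X₁).sum + (l.map fun s => FreeAbelianGroup.of s.1.X₃).sum +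
          (t.map fun s => FreeAbelianGroup.of s.1.X₂).sum =
        (l.map fun s => FreeAbelianGroup.of s.1.X₂).sum + (t.map fun s => FreeAbelianGroup.of s.1.X₁).sum +
          (t.map fun s => FreeAbelianGroup.of s.1.X₃).sum := by
  induction hz using AddSubgroup.closure_induction with
  | mem x hx =>
    obtain ⟨S, hS, rfl⟩ := hx
    refine ⟨[⟨S, hS⟩], [], ?_⟩
    simp only [List.map_cons, List.map_nil, List.sum_cons, List.sum_nil]
    abel
  | zero => exact ⟨[], [], by simp⟩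
  | add x y _ _ hx hy =>
    obtain ⟨l, t, h⟩ := hx
    obtain ⟨l', t', h'⟩ := hy
    refine ⟨l ++ l', t ++ t', ?_⟩
    simp only [List.map_append, List.sum_append]
    linear_combination (norm := abel) h + h'
  | neg x _ hx =>
    obtain ⟨l, t, h⟩ := hx
    refine ⟨t, l, ?_⟩
    linear_combination (norm := abel) -h

theorem perm_of_sum_eq {l l' : List A}
    (h : (l.map FreeAbelianGroup.of).sum = (l'.map FreeAbelianGroup.of).sum) : l.Perm l' := by
  classical
  rw [List.perm_iff_count]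
  intro a
  let φ : FreeAbelianGroup A →+ ℤ := FreeAbelianGroup.lift fun b => if b = a then 1 else 0
  have key : ∀ m : List A, φ ((m.map FreeAbelianGroup.of).sum) = (m.count a : ℤ) := fun m => by
    induction m with
    | nil => simp
    | cons b m ih =>
      rw [List.map_cons, List.sum_cons, map_add, ih, List.count_cons]
      by_cases hb : b = a
      · subst hb; simp [φ, add_comm]
      · simp [φ, hb]
  exact_mod_cast (key l).symm.trans ((congrArg φ h).trans (key l'))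

theorem exists_sub [P.IsSerreClass] (x : KZero.K0sub P) :
    ∃ X X' : A, P X ∧ P X' ∧ x = KZero.clSub P X - KZero.clSub P X' := by
  have hb : ∀ X Y : A, P X → P Y → P (X ⊞ Y) ∧ KZero.clSub P (X ⊞ Y) = KZero.clSub P X + KZero.clSub P Y :=
    fun X Y hX hY => by
      have hs : (ShortComplex.mk (biprod.inl : X ⟶ X ⊞ Y) biprod.snd biprod.inl_snd).ShortExact :=
        (ShortComplex.Splitting.ofHasBinaryBiproduct X Y).shortExact
      have h := P.prop_X₂_of_shortExact hs hX hY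
      exact ⟨h, K0Sub.clSub_add hs hX h hY⟩
  obtain ⟨y, rfl⟩ := QuotientAddGroup.mk_surjective x
  induction y using FreeAbelianGroup.induction_on with
  | zero => exact ⟨0, 0, P.prop_zero, P.prop_zero, (sub_self (KZero.clSub P (0 : A))).symm⟩
  | of q =>
    refine ⟨q.1, 0, q.2, P.prop_zero, ?_⟩
    rw [K0Sub.clSub_isZero (isZero_zero A), sub_zero, K0Sub.clSub_eq_mk q.2]
  | neg q hq =>
    obtain ⟨X, X', hX, hX', h⟩ := hq
    exact ⟨X', X, hX', hX, by rw [QuotientAddGroup.mk_neg, h, neg_sub]⟩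
  | add a b ha hb' =>
    obtain ⟨X, X', hX, hX', h⟩ := ha
    obtain ⟨Y, Y', hY, hY', h'⟩ := hb'
    exact ⟨X ⊞ Y, X' ⊞ Y', (hb X Y hX hY).1, (hb X' Y' hX' hY').1, by
      rw [QuotientAddGroup.mk_add, h, h', (hb X Y hX hY).2, (hb X' Y' hX' hY').2]; abel⟩

/-- Homology detected by a projection. -/
theorem nonempty_homology_iso (S : ShortComplex A) {X : A} (i : X ⟶ S.X₂) (p : S.X₂ ⟶ X) (hip : i ≫ p = 𝟙 X)
    (hi : i ≫ S.g = 0) (hp : S.f ≫ p = 0)
    (h : ∀ ⦃W : A⦄ (x : W ⟶ S.X₂), x ≫ S.g = 0 → x ≫ p = 0 →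
      ∃ (W' : A) (π : W' ⟶ W) (_ : Epi π) (y : W' ⟶ S.X₁), π ≫ x = y ≫ S.f) :
    Nonempty (S.homology ≅ X) := by
  let T := ShortComplex.mk (kernel.lift S.g S.f S.zero) (kernel.ι S.g ≫ p) (by rw [kernel.lift_ι_assoc, hp])
  have hT : T.Exact := by
    rw [ShortComplex.exact_iff_exact_up_to_refinements]
    intro W x hx
    obtain ⟨W', π, hπ, y, hy⟩ := h (x ≫ kernel.ι S.g) (by rw [Category.assoc, kernel.condition, comp_zero])
      (by rw [Category.assoc]; exact hx)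
    exact ⟨W', π, hπ, y, by rw [← cancel_mono (kernel.ι S.g), Category.assoc, Category.assoc, kernel.lift_ι]; exact hy⟩
  haveI : IsSplitEpi T.g := IsSplitEpi.mk' ⟨kernel.lift S.g i hi, by simp [T, hip]⟩
  exact ⟨S.homologyIsoCokernelLift ≪≫ (cokernelIsCokernel _).coconePointUniqueUpToIso hT.gIsCokernel⟩

section Periodic

variable {S T : ShortComplex A} (hS : S.ShortExact) (hT : T.ShortExact) (X X' : A)

/-- The even term. -/
abbrev Ev (S T : ShortComplex A) (X : A) : A := X ⊞ ((S.X₁ ⊞ S.X₃) ⊞ T.X₂)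

/-- The odd term. -/
abbrev Od (S T : ShortComplex A) (X' : A) : A := X' ⊞ (S.X₂ ⊞ (T.X₁ ⊞ T.X₃))

/-- The differential out of the even term. -/
def d₀ (S T : ShortComplex A) (X X' : A) : Ev S T X ⟶ Od S T X' :=
  biprod.snd ≫ biprod.lift (biprod.fst ≫ biprod.fst ≫ S.f) (biprod.snd ≫ T.g ≫ biprod.inr) ≫ biprod.inr

/-- The differential out of the odd term. -/
def d₁ (S T : ShortComplex A) (X X' : A) : Od S T X' ⟶ Ev S T X :=
  biprod.snd ≫ biprod.lift (biprod.fst ≫ S.g ≫ biprod.inr) (biprod.snd ≫ biprod.fst ≫ T.f) ≫ biprod.inr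

theorem d₀_d₁ : d₀ S T X X' ≫ d₁ S T X X' = 0 := by
  refine biprod.hom_ext _ _ (by simp [d₁]) (biprod.hom_ext _ _ ?_ ?_) <;> simp [d₀, d₁]

theorem d₁_d₀ : d₁ S T X X' ≫ d₀ S T X X' = 0 := by
  refine biprod.hom_ext _ _ (by simp [d₀]) (biprod.hom_ext _ _ ?_ ?_) <;> simp [d₀, d₁]

include hS hT in
theorem homology_even : Nonempty ((ShortComplex.mk (d₁ S T X X') (d₀ S T X X') (d₁_d₀ X X')).homology ≅ X) := by
  haveI := hS.mono_f
  haveI := hS.epi_g
  haveI := hT.mono_f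
  refine nonempty_homology_iso (ShortComplex.mk (d₁ S T X X') (d₀ S T X X') (d₁_d₀ X X'))
    biprod.inl biprod.fst (by simp) (by simp [d₀]) (by simp [d₁]) fun W x hx hp => ?_
  dsimp only at x hx hp ⊢
  have hx' := (congrArg (· ≫ (biprod.snd : Od S T X' ⟶ _)) hx).trans zero_comp
  simp only [d₀, Category.assoc, biprod.inr_snd, Category.comp_id] at hx'
  have ha : x ≫ biprod.snd ≫ biprod.fst ≫ biprod.fst = 0 := by
    rw [← cancel_mono S.f, zero_comp]
    have := (congrArg (· ≫ (biprod.fst : S.X₂ ⊞ (T.X₁ ⊞ T.X₃) ⟶ _)) hx').trans zero_comp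
    simpa using this
  have ht : (x ≫ biprod.snd ≫ biprod.snd) ≫ T.g = 0 := by
    have := (congrArg (· ≫ (biprod.snd : S.X₂ ⊞ (T.X₁ ⊞ T.X₃) ⟶ _) ≫ biprod.snd) hx').trans zero_comp
    simpa using this
  obtain ⟨W₁, π, hπ, v, hv⟩ := surjective_up_to_refinements_of_epi S.g (x ≫ biprod.snd ≫ biprod.fst ≫ biprod.snd)
  refine ⟨W₁, π, hπ, biprod.lift 0 (biprod.lift v (biprod.lift (π ≫ hT.exact.lift _ ht) 0)), ?_⟩
  refine biprod.hom_ext _ _ ?_ (biprod.hom_ext _ _ (biprod.hom_ext _ _ ?_ ?_) ?_)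
  · simp [d₁, hp]
  · simp [d₁, ha]
  · simp [d₁, hv]
  · simp [d₁]

include hS hT in
theorem homology_odd : Nonempty ((ShortComplex.mk (d₀ S T X X') (d₁ S T X X') (d₀_d₁ X X')).homology ≅ X') := by
  haveI := hT.mono_f
  haveI := hT.epi_g
  haveI := hS.mono_f
  refine nonempty_homology_iso (ShortComplex.mk (d₀ S T X X') (d₁ S T X X') (d₀_d₁ X X'))
    biprod.inl biprod.fst (by simp) (by simp [d₁]) (by simp [d₀]) fun W x hx hp => ?_
  dsimp only at x hx hp ⊢
  have hx' := (congrArg (· ≫ (biprod.snd : Ev S T X ⟶ _)) hx).trans zero_comp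
  simp only [d₁, Category.assoc, biprod.inr_snd, Category.comp_id] at hx'
  have hb : (x ≫ biprod.snd ≫ biprod.fst) ≫ S.g = 0 := by
    have := (congrArg (· ≫ (biprod.fst : (S.X₁ ⊞ S.X₃) ⊞ T.X₂ ⟶ _) ≫ biprod.snd) hx').trans zero_comp
    simpa using this
  have hs : x ≫ biprod.snd ≫ biprod.snd ≫ biprod.fst = 0 := by
    rw [← cancel_mono T.f, zero_comp]
    have := (congrArg (· ≫ (biprod.snd : (S.X₁ ⊞ S.X₃) ⊞ T.X₂ ⟶ _)) hx').trans zero_comp
    simpa using this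
  obtain ⟨W₁, π, hπ, v, hv⟩ := surjective_up_to_refinements_of_epi T.g (x ≫ biprod.snd ≫ biprod.snd ≫ biprod.snd)
  refine ⟨W₁, π, hπ, biprod.lift 0 (biprod.lift (biprod.lift (π ≫ hS.exact.lift _ hb) 0) v), ?_⟩
  refine biprod.hom_ext _ _ ?_ (biprod.hom_ext _ _ ?_ (biprod.hom_ext _ _ ?_ ?_))
  · simp [d₀, hp]
  · simp [d₀]
  · simp [d₀, hs]
  · simp [d₀, hv]

end Periodic

theorem exists_periodic [P.IsSerreClass] (ι : KZero.K0sub P →+ KZero.K0 A)
    (hι : ∀ X : A, P X → ι (KZero.clSub P X) = KZero.cl X) (x : KZero.K0sub P) (hx : ι x = 0) :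
    ∃ (M : A) (φ ψ : M ⟶ M) (h₁ : φ ≫ ψ = 0) (h₂ : ψ ≫ φ = 0),
      P (ShortComplex.mk φ ψ h₁).homology ∧ P (ShortComplex.mk ψ φ h₂).homology ∧
      x = KZero.clSub P (ShortComplex.mk φ ψ h₁).homology - KZero.clSub P (ShortComplex.mk ψ φ h₂).homology := by
  obtain ⟨X, X', hX, hX', rfl⟩ := exists_sub P x
  rw [map_sub, hι X hX, hι X' hX', KZero.cl, KZero.cl, ← QuotientAddGroup.mk_sub, QuotientAddGroup.eq_zero_iff] at hx
  obtain ⟨l, t, h⟩ := exists_lists hx
  have hperm : ([X] ++ ((l.map fun s => s.1.X₁) ++ (l.map fun s => s.1.X₃) ++ (t.map fun s => s.1.X₂))).Perm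
      ([X'] ++ ((l.map fun s => s.1.X₂) ++ ((t.map fun s => s.1.X₁) ++ (t.map fun s => s.1.X₃)))) := by
    refine perm_of_sum_eq ?_
    simp only [List.map_append, List.map_map, List.sum_append, List.map_cons, List.map_nil, List.sum_cons, List.sum_nil,
      Function.comp_def]
    linear_combination (norm := abel) h
  obtain ⟨S, hS, ⟨a₁⟩, ⟨a₂⟩, ⟨a₃⟩⟩ := exists_sum l
  obtain ⟨T, hT, ⟨b₁⟩, ⟨b₂⟩, ⟨b₃⟩⟩ := exists_sum t
  obtain ⟨θ₀⟩ := lsum_perm hperm
  obtain ⟨c₁⟩ := lsum_append ((l.map fun s => s.1.X₁) ++ (l.map fun s => s.1.X₃)) (t.map fun s => s.1.X₂)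
  obtain ⟨c₂⟩ := lsum_append (l.map fun s => s.1.X₁) (l.map fun s => s.1.X₃)
  obtain ⟨c₃⟩ := lsum_append (l.map fun s => s.1.X₂) ((t.map fun s => s.1.X₁) ++ (t.map fun s => s.1.X₃))
  obtain ⟨c₄⟩ := lsum_append (t.map fun s => s.1.X₁) (t.map fun s => s.1.X₃)
  let θ : Ev S T X ≅ Od S T X' :=
    (biprod.mapIso (Iso.refl X) (c₁ ≪≫ biprod.mapIso (c₂ ≪≫ biprod.mapIso a₁ a₃) b₂)).symm ≪≫ θ₀ ≪≫
      biprod.mapIso (Iso.refl X') (c₃ ≪≫ biprod.mapIso a₂ (c₄ ≪≫ biprod.mapIso b₁ b₃))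
  have h₁ : (θ.hom ≫ d₁ S T X X') ≫ d₀ S T X X' ≫ θ.inv = 0 := by
    rw [Category.assoc, ← Category.assoc (d₁ S T X X'), d₁_d₀, zero_comp, comp_zero]
  have h₂ : (d₀ S T X X' ≫ θ.inv) ≫ θ.hom ≫ d₁ S T X X' = 0 := by
    rw [Category.assoc, Iso.inv_hom_id_assoc, d₀_d₁]
  obtain ⟨e⟩ := homology_even hS hT X X'
  obtain ⟨e'⟩ := homology_odd hS hT X X'
  let i₁ : ShortComplex.mk _ _ h₁ ≅ ShortComplex.mk (d₁ S T X X') (d₀ S T X X') (d₁_d₀ X X') :=
    ShortComplex.isoMk θ (Iso.refl _) θ (by simp) (by simp)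
  let i₂ : ShortComplex.mk _ _ h₂ ≅ ShortComplex.mk (d₀ S T X X') (d₁ S T X X') (d₀_d₁ X X') :=
    ShortComplex.isoMk (Iso.refl _) θ (Iso.refl _) (by simp) (by simp)
  let j₁ := (ShortComplex.homologyMapIso i₁) ≪≫ e
  let j₂ := (ShortComplex.homologyMapIso i₂) ≪≫ e'
  have hz : ∀ {Y Z : A} (j : Y ≅ Z), P Z → P Y ∧ KZero.clSub P Y = KZero.clSub P Z := fun {Y Z} j hZ => by
    have hY : P Y := P.prop_of_iso j.symm hZ
    have h3 := K0Sub.clSub_add (P := P) (K0Sub.shortExact_kernel j.hom) (P.prop_of_mono (kernel.ι j.hom) hY) hY hZ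
    dsimp only at h3
    exact ⟨hY, by rw [h3, K0Sub.clSub_isZero (isZero_kernel_of_mono j.hom), zero_add]⟩
  exact ⟨_, _, _, h₁, h₂, (hz j₁ hX).1, (hz j₂ hX').1, by rw [(hz j₁ hX).2, (hz j₂ hX').2]⟩

end GrothLib.K0Serre22
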