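import Groth.Prelude.Def_KZero
import Groth.Agent.Lib.K0Sub.Basic
import Mathlib.CategoryTheory.Abelian.SerreClass.Localization
import Mathlib.CategoryTheory.Localization.CalculusOfFractions
import Mathlib.CategoryTheory.Limits.Shapes.Kernels

/-! # `K₀` of a Serre quotient -/

set_option autoImplicit false
set_option linter.style.haveILetI false
universe v v' u u'

open CategoryTheory CategoryTheory.Limits

noncomputable section

namespace GrothLib.K0Serre22

variable {A : Type u} [Category.{v} A] [Abelian A]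

theorem cl_add {S : ShortComplex A} (hS : S.ShortExact) : KZero.cl S.X₂ = KZero.cl S.X₁ + KZero.cl S.X₃ := by
  rw [KZero.cl, KZero.cl, KZero.cl, ← QuotientAddGroup.mk_add, eq_comm, QuotientAddGroup.eq]
  refine AddSubgroup.subset_closure ⟨S, hS, ?_⟩
  abel

theorem cl_isZero {Z : A} (hZ : IsZero Z) : KZero.cl Z = 0 := by
  have h : (ShortComplex.mk (0 : Z ⟶ Z) (0 : Z ⟶ Z) zero_comp).ShortExact :=
    { exact := ShortComplex.exact_of_isZero_X₂ _ hZ
      mono_f := ⟨fun _ _ _ => hZ.eq_of_tgt _ _⟩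
      epi_g := ⟨fun _ _ _ => hZ.eq_of_src _ _⟩ }
  exact left_eq_add.mp (cl_add h)

theorem cl_eq_kernel_add {X Y : A} (f : X ⟶ Y) [Epi f] : KZero.cl X = KZero.cl (kernel f) + KZero.cl Y :=
  cl_add (K0Sub.shortExact_kernel f)

theorem cl_iso {X Y : A} (e : X ≅ Y) : KZero.cl X = KZero.cl Y := by
  rw [cl_eq_kernel_add e.hom, cl_isZero (isZero_kernel_of_mono e.hom), zero_add]

theorem cl_ker_coker {X Y : A} (f : X ⟶ Y) :
    KZero.cl X - KZero.cl Y = KZero.cl (kernel f) - KZero.cl (cokernel f) := by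
  have h1 := cl_eq_kernel_add (Abelian.factorThruImage f)
  have h2 := cl_eq_kernel_add (cokernel.π f)
  have h3 : KZero.cl (kernel (Abelian.factorThruImage f)) = KZero.cl (kernel f) :=
    cl_iso ((kernelCompMono (Abelian.factorThruImage f) (Abelian.image.ι f)).symm ≪≫
      kernelIsoOfEq (Abelian.image.fac f))
  rw [h1, h2, h3]
  abel

variable (P : ObjectProperty A)

theorem exists_ι : ∃ ι : KZero.K0sub P →+ KZero.K0 A, ∀ X : A, P X → ι (KZero.clSub P X) = KZero.cl X :=
  K0Sub.exists_lift (P := P) (fun X => KZero.cl X) fun _ hS _ _ _ => cl_add hS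

variable {Q : Type u'} [Category.{v'} Q] [Abelian Q] (L : A ⥤ Q)

theorem exists_lam [L.Additive] [PreservesFiniteLimits L] [PreservesFiniteColimits L] :
    ∃ lam : KZero.K0 A →+ KZero.K0 Q, ∀ X : A, lam (KZero.cl X) = KZero.cl (L.obj X) := by
  let f₀ : FreeAbelianGroup A →+ KZero.K0 Q := FreeAbelianGroup.lift fun X => KZero.cl (L.obj X)
  have hle : KZero.relAb A ≤ f₀.ker := by
    rw [KZero.relAb, AddSubgroup.closure_le]
    rintro x ⟨S, hS, rfl⟩
    have h : KZero.cl (L.obj S.X₂) = KZero.cl (L.obj S.X₁) + KZero.cl (L.obj S.X₃) := cl_add (hS.map_of_exact L)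
    simp [f₀, h]
  exact ⟨QuotientAddGroup.lift _ f₀ hle, fun X => FreeAbelianGroup.lift_apply_of _ _⟩

variable [P.IsSerreClass] [L.IsLocalization P.isoModSerre] [L.Additive] [PreservesFiniteLimits L]
  [PreservesFiniteColimits L]

theorem lam_ker_eq (ι : KZero.K0sub P →+ KZero.K0 A) (hι : ∀ X : A, P X → ι (KZero.clSub P X) = KZero.cl X)
    (lam : KZero.K0 A →+ KZero.K0 Q) (hlam : ∀ X : A, lam (KZero.cl X) = KZero.cl (L.obj X)) :
    Function.Surjective lam ∧ lam.ker = ι.range := by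
  haveI := Localization.essSurj L P.isoModSerre
  let G := KZero.K0 A ⧸ ι.range
  let π : KZero.K0 A →+ G := QuotientAddGroup.mk' ι.range
  have hP : ∀ X : A, P X → π (KZero.cl X) = 0 := fun X hX =>
    (QuotientAddGroup.eq_zero_iff _).2 ⟨_, hι X hX⟩
  have hW : ∀ {X Y : A} (f : X ⟶ Y), P.isoModSerre f → π (KZero.cl X) = π (KZero.cl Y) := fun {X Y} f hf => by
    rw [← sub_eq_zero, ← map_sub, cl_ker_coker, map_sub, hP _ hf.1, hP _ hf.2, sub_zero]
  have hWiso : ∀ {X Y : A} (f : X ⟶ Y), IsIso (L.map f) → P.isoModSerre f := fun f hf =>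
    (ObjectProperty.SerreClassLocalization.isIso_map_iff L P f).1 hf
  have hL : ∀ {X Y : A}, (L.obj X ≅ L.obj Y) → π (KZero.cl X) = π (KZero.cl Y) := fun {X Y} e => by
    obtain ⟨φ, hφ⟩ := Localization.exists_rightFraction L P.isoModSerre e.hom
    haveI := Localization.inverts L P.isoModSerre φ.s φ.hs
    have hf : IsIso (L.map φ.f) := by
      rw [← MorphismProperty.RightFraction.map_s_comp_map φ L (Localization.inverts L P.isoModSerre), ← hφ]
      infer_instance
    rw [← hW φ.s φ.hs, hW φ.f (hWiso _ hf)]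
  let F : Q → G := fun q => π (KZero.cl (L.objPreimage q))
  have hFL : ∀ X : A, F (L.obj X) = π (KZero.cl X) := fun X => hL (L.objObjPreimageIso (L.obj X))
  have hadd : ∀ S : ShortComplex Q, S.ShortExact → F S.X₂ = F S.X₁ + F S.X₃ := by
    intro S hS
    haveI := hS.epi_g
    haveI := hS.mono_f
    obtain ⟨φ, hφ⟩ := Localization.exists_rightFraction L P.isoModSerre
      ((L.objObjPreimageIso S.X₂).hom ≫ S.g ≫ (L.objObjPreimageIso S.X₃).inv)
    haveI := Localization.inverts L P.isoModSerre φ.s φ.hs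
    have hLf : L.map φ.f = L.map φ.s ≫ (L.objObjPreimageIso S.X₂).hom ≫ S.g ≫ (L.objObjPreimageIso S.X₃).inv := by
      rw [hφ, MorphismProperty.RightFraction.map_s_comp_map]
    haveI : Epi (L.map φ.f) := by rw [hLf]; infer_instance
    have hC : P (cokernel φ.f) := (ObjectProperty.SerreClassLocalization.epi_map_iff L P φ.f).1 inferInstance
    let e : L.obj (kernel φ.f) ≅ S.X₁ :=
      PreservesKernel.iso L φ.f ≪≫ kernelIsoOfEq hLf ≪≫
        kernelIsIsoComp (L.map φ.s) _ ≪≫ kernelIsIsoComp (L.objObjPreimageIso S.X₂).hom _ ≪≫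
        kernelCompMono S.g _ ≪≫ (kernelIsKernel S.g).conePointUniqueUpToIso hS.fIsKernel
    have h1 := congrArg π (cl_ker_coker φ.f)
    rw [map_sub, map_sub, hP _ hC, sub_zero, sub_eq_iff_eq_add, ← hFL (kernel φ.f)] at h1
    change π _ = _
    rw [← hW φ.s φ.hs, h1]
    refine congrArg (· + _) ?_
    exact hL ((L.objObjPreimageIso _) ≪≫ e ≪≫ (L.objObjPreimageIso S.X₁).symm)
  let μ₀ : FreeAbelianGroup Q →+ G := FreeAbelianGroup.lift F
  have hle : KZero.relAb Q ≤ μ₀.ker := by
    rw [KZero.relAb, AddSubgroup.closure_le]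
    rintro x ⟨S, hS, rfl⟩
    simp [μ₀, hadd S hS]
  let μ : KZero.K0 Q →+ G := QuotientAddGroup.lift _ μ₀ hle
  have hμ : ∀ q : Q, μ (KZero.cl q) = F q := fun q => FreeAbelianGroup.lift_apply_of _ _
  have hcomp : μ.comp lam = π := QuotientAddGroup.addMonoidHom_ext _
    (FreeAbelianGroup.lift_ext _ _ fun X => ((congrArg μ (hlam X)).trans (hμ _)).trans (hFL X))
  refine ⟨fun y => ?_, le_antisymm (fun x hx => ?_) ?_⟩
  · obtain ⟨z, rfl⟩ := QuotientAddGroup.mk_surjective y
    induction z using FreeAbelianGroup.induction_on with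
    | zero => exact ⟨0, map_zero lam⟩
    | of q => exact ⟨KZero.cl (L.objPreimage q), (hlam _).trans (cl_iso (L.objObjPreimageIso q))⟩
    | neg q hq =>
      obtain ⟨w, hw⟩ := hq
      exact ⟨-w, by rw [map_neg, hw]; rfl⟩
    | add a b ha hb =>
      obtain ⟨c, hc⟩ := ha
      obtain ⟨d, hd⟩ := hb
      exact ⟨c + d, by rw [map_add, hc, hd]; rfl⟩
  · refine (QuotientAddGroup.eq_zero_iff x).1 ?_
    have := DFunLike.congr_fun hcomp x
    rw [AddMonoidHom.comp_apply, AddMonoidHom.mem_ker.1 hx, map_zero] at this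
    exact this.symm
  · rintro _ ⟨y, rfl⟩
    have h : lam.comp ι = 0 := K0Sub.hom_ext fun X hX => by
      rw [AddMonoidHom.comp_apply, hι X hX, hlam]
      exact cl_isZero ((ObjectProperty.SerreClassLocalization.isZero_obj_iff L P X).2 hX)
    exact DFunLike.congr_fun h y

end GrothLib.K0Serre22
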